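/-
helper5, project G2SYL (statement S4632): the Sylow 2-subgroups of `G₂(q)`, `q` odd, have elementary abelian
abelianization.  DEFINITIONS ONLY (plus the two computational lemmas that pin them down).

The split octonion algebra (Zorn vector matrices on `F⁸`) is identified with `A = M₂(F) × M₂(F)` with product
`(h, X)(h', X') = (h' h - X adj X', h X' + adj h' X)`; in this model the centralizer of the involution
`t = (h, X) ↦ (h, -X)` is `{(h, X) ↦ (a h a⁻¹, a X z⁻¹) : det a = det z}`.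
-/
import Mathlib
import Cfsg.Prelude.Def_G2

set_option autoImplicit false

namespace Cfsg.Agent.Lib.Helper5.G2Syl

open Matrix

/-- `2 × 2` matrices -/
abbrev M2 (F : Type*) := Matrix (Fin 2) (Fin 2) F

/-- the underlying space of the matrix model -/
abbrev A (F : Type*) := M2 F × M2 F

variable {F : Type*} [Field F]

/-- the product of the matrix model of the split octonions -/
def mu (P Q : A F) : A F :=
  (Q.1 * P.1 - P.2 * Q.2.adjugate, P.1 * Q.2 + Q.1.adjugate * P.2)

/-- coordinates: the Zorn vector matrix `(α, a, b, β)` goes to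
`([[α, b₀], [a₀, β]], [[a₁, a₂], [b₂, -b₁]])`. -/
def theta : (Fin 8 → F) ≃ₗ[F] A F where
  toFun x := (!![x 0, x 4; x 1, x 7], !![x 2, x 3; x 6, -x 5])
  invFun P := ![P.1 0 0, P.1 1 0, P.2 0 0, P.2 0 1, P.1 0 1, -P.2 1 1, P.2 1 0, P.1 1 1]
  map_add' x y := by
    ext i j <;> fin_cases i <;> fin_cases j <;> simp [add_comm]
  map_smul' c x := by
    ext i j <;> fin_cases i <;> fin_cases j <;> simp
  left_inv x := by
    funext i; fin_cases i <;> simp
  right_inv P := by
    ext i j <;> fin_cases i <;> fin_cases j <;> simp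

/-- the linear automorphisms of `A` preserving `mu` -/
def AutA (F : Type*) [Field F] : Subgroup (A F ≃ₗ[F] A F) where
  carrier := {g | ∀ P Q, g (mu P Q) = mu (g P) (g Q)}
  mul_mem' {g h} hg hh := by
    intro P Q
    show g (h (mu P Q)) = mu (g (h P)) (g (h Q))
    rw [hh, hg]
  one_mem' := by intro P Q; rfl
  inv_mem' {g} hg := by
    intro P Q
    apply g.injective
    have h1 : ∀ x, g (g⁻¹ x) = x := fun x => g.apply_symm_apply x
    rw [hg, h1, h1, h1]

theorem mem_AutA {g : A F ≃ₗ[F] A F} : g ∈ AutA F ↔ ∀ P Q, g (mu P Q) = mu (g P) (g Q) := Iff.rfl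

/-- `GL₈(F)` as the group of linear automorphisms of `A`, via `theta` -/
noncomputable def glEquiv (F : Type*) [Field F] : GL (Fin 8) F ≃* (A F ≃ₗ[F] A F) :=
  Matrix.GeneralLinearGroup.toLin.trans
    ((LinearMap.GeneralLinearGroup.congrLinearEquiv (theta (F := F))).trans
      (LinearMap.GeneralLinearGroup.generalLinearEquiv F (A F)))

/-- the pairs `(a, z) ∈ GL₂ × GL₂` with `det a = det z` -/
def Delta (F : Type*) [Field F] : Subgroup (GL (Fin 2) F × GL (Fin 2) F) where
  carrier := {p | Matrix.GeneralLinearGroup.det p.1 = Matrix.GeneralLinearGroup.det p.2}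
  mul_mem' {p q} hp hq := by
    show Matrix.GeneralLinearGroup.det (p.1 * q.1) = Matrix.GeneralLinearGroup.det (p.2 * q.2)
    rw [map_mul, map_mul, hp, hq]
  one_mem' := rfl
  inv_mem' {p} hp := by
    show Matrix.GeneralLinearGroup.det (p.1⁻¹) = Matrix.GeneralLinearGroup.det (p.2⁻¹)
    rw [map_inv, map_inv, hp]

theorem mem_Delta {p : GL (Fin 2) F × GL (Fin 2) F} :
    p ∈ Delta F ↔ Matrix.GeneralLinearGroup.det p.1 = Matrix.GeneralLinearGroup.det p.2 := Iff.rfl

/-- the linear map `(h, X) ↦ (a h a⁻¹, a X z⁻¹)` -/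
def gLin (a z : GL (Fin 2) F) : A F ≃ₗ[F] A F where
  toFun P := ((a : M2 F) * P.1 * ((a⁻¹ : GL (Fin 2) F) : M2 F), (a : M2 F) * P.2 * ((z⁻¹ : GL (Fin 2) F) : M2 F))
  invFun P := (((a⁻¹ : GL (Fin 2) F) : M2 F) * P.1 * (a : M2 F), ((a⁻¹ : GL (Fin 2) F) : M2 F) * P.2 * (z : M2 F))
  map_add' P Q := by
    simp [Matrix.mul_add, Matrix.add_mul]
  map_smul' c P := by
    simp
  left_inv P := by
    ext : 1
    · show ((a⁻¹ : GL (Fin 2) F) : M2 F) * ((a : M2 F) * P.1 * ((a⁻¹ : GL (Fin 2) F) : M2 F)) * (a : M2 F) = P.1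
      simp only [Matrix.mul_assoc, ← Units.val_mul, inv_mul_cancel, Units.val_one, Matrix.mul_one]
      rw [← Matrix.mul_assoc, ← Units.val_mul, inv_mul_cancel, Units.val_one, Matrix.one_mul]
    · show ((a⁻¹ : GL (Fin 2) F) : M2 F) * ((a : M2 F) * P.2 * ((z⁻¹ : GL (Fin 2) F) : M2 F)) * (z : M2 F) = P.2
      simp only [Matrix.mul_assoc, ← Units.val_mul, inv_mul_cancel, Units.val_one, Matrix.mul_one]
      rw [← Matrix.mul_assoc, ← Units.val_mul, inv_mul_cancel, Units.val_one, Matrix.one_mul]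
  right_inv P := by
    ext : 1
    · show (a : M2 F) * (((a⁻¹ : GL (Fin 2) F) : M2 F) * P.1 * (a : M2 F)) * ((a⁻¹ : GL (Fin 2) F) : M2 F) = P.1
      simp only [Matrix.mul_assoc, ← Units.val_mul, mul_inv_cancel, Units.val_one, Matrix.mul_one]
      rw [← Matrix.mul_assoc, ← Units.val_mul, mul_inv_cancel, Units.val_one, Matrix.one_mul]
    · show (a : M2 F) * (((a⁻¹ : GL (Fin 2) F) : M2 F) * P.2 * (z : M2 F)) * ((z⁻¹ : GL (Fin 2) F) : M2 F) = P.2
      simp only [Matrix.mul_assoc, ← Units.val_mul, mul_inv_cancel, Units.val_one, Matrix.mul_one]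
      rw [← Matrix.mul_assoc, ← Units.val_mul, mul_inv_cancel, Units.val_one, Matrix.one_mul]

@[simp] theorem gLin_apply (a z : GL (Fin 2) F) (P : A F) :
    gLin a z P = ((a : M2 F) * P.1 * ((a⁻¹ : GL (Fin 2) F) : M2 F),
      (a : M2 F) * P.2 * ((z⁻¹ : GL (Fin 2) F) : M2 F)) := rfl

/-- the involution `(h, X) ↦ (h, -X)` of the model -/
def tA (F : Type*) [Field F] : A F ≃ₗ[F] A F := gLin 1 (-1)

end Cfsg.Agent.Lib.Helper5.G2Syl

namespace Cfsg.Agent.Lib.Helper5.G2Syl

open Matrix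

variable {F : Type*} [Field F]

/-- `diag(u, 1)` -/
def diagU (u : Fˣ) : GL (Fin 2) F :=
  Matrix.GeneralLinearGroup.mkOfDetNeZero !![(u : F), 0; 0, 1] (by simp)

/-- the permutation matrix `[[0, 1], [1, 0]]` -/
def swapW (F : Type*) [Field F] : GL (Fin 2) F :=
  Matrix.GeneralLinearGroup.mkOfDetNeZero !![(0 : F), 1; 1, 0] (by simp)

end Cfsg.Agent.Lib.Helper5.G2Syl
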