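/-
helper5, project G2SYL (S4632), module [GAUT]: `(h, X) ↦ (a h a⁻¹, a X z⁻¹)` is an automorphism of the matrix
model when `det a = det z`; the homomorphism `phi : Δ → Aut(A)` and its kernel (the scalar pairs).
-/
import Mathlib
import Cfsg.Agent.Lib.Helper5.G2Syl.Defs

set_option autoImplicit false

namespace Cfsg.Agent.Lib.Helper5.G2Syl

open Matrix

variable {F : Type*} [Field F]

theorem gl2_inv_val (a : GL (Fin 2) F) :
    ((a⁻¹ : GL (Fin 2) F) : M2 F) = (a : M2 F)⁻¹ := by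
  simp

theorem gl2_adjugate (a : GL (Fin 2) F) :
    (a : M2 F).adjugate = (a : M2 F).det • ((a⁻¹ : GL (Fin 2) F) : M2 F) := by
  have hdet : (a : M2 F).det ≠ 0 := by
    have := Matrix.GeneralLinearGroup.det a |>.ne_zero
    simpa using this
  rw [gl2_inv_val, Matrix.inv_def, Ring.inverse_eq_inv', smul_smul, mul_inv_cancel₀ hdet, one_smul]

theorem gLin_mem_AutA (a z : GL (Fin 2) F)
    (h : Matrix.GeneralLinearGroup.det a = Matrix.GeneralLinearGroup.det z) :
    gLin a z ∈ AutA F := by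
  intro P Q
  have hdet : (a : M2 F).det = (z : M2 F).det := by
    have := congrArg Units.val h
    simpa using this
  have hz0 : (z : M2 F).det ≠ 0 := by
    have := Matrix.GeneralLinearGroup.det z |>.ne_zero
    simpa using this
  have haa : ((a⁻¹ : GL (Fin 2) F) : M2 F) * (a : M2 F) = 1 := by
    rw [← Units.val_mul, inv_mul_cancel, Units.val_one]
  have haa' : (a : M2 F) * ((a⁻¹ : GL (Fin 2) F) : M2 F) = 1 := by
    rw [← Units.val_mul, mul_inv_cancel, Units.val_one]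
  have hzz : ((z⁻¹ : GL (Fin 2) F) : M2 F) * (z : M2 F) = 1 := by
    rw [← Units.val_mul, inv_mul_cancel, Units.val_one]
  have hzz' : (z : M2 F) * ((z⁻¹ : GL (Fin 2) F) : M2 F) = 1 := by
    rw [← Units.val_mul, mul_inv_cancel, Units.val_one]
  -- adjugates
  have adja : (a : M2 F).adjugate = (a : M2 F).det • ((a⁻¹ : GL (Fin 2) F) : M2 F) := gl2_adjugate a
  have adjai : ((a⁻¹ : GL (Fin 2) F) : M2 F).adjugate = ((a : M2 F).det)⁻¹ • (a : M2 F) := by
    have := gl2_adjugate a⁻¹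
    rw [this, inv_inv]
    congr 1
    rw [gl2_inv_val, Matrix.det_nonsing_inv, Ring.inverse_eq_inv']
  have adjzi : ((z⁻¹ : GL (Fin 2) F) : M2 F).adjugate = ((z : M2 F).det)⁻¹ • (z : M2 F) := by
    have := gl2_adjugate z⁻¹
    rw [this, inv_inv]
    congr 1
    rw [gl2_inv_val, Matrix.det_nonsing_inv, Ring.inverse_eq_inv']
  ext : 1
  · show (a : M2 F) * (Q.1 * P.1 - P.2 * Q.2.adjugate) * ((a⁻¹ : GL (Fin 2) F) : M2 F) =
      ((a : M2 F) * Q.1 * ((a⁻¹ : GL (Fin 2) F) : M2 F)) * ((a : M2 F) * P.1 * ((a⁻¹ : GL (Fin 2) F) : M2 F)) -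
        ((a : M2 F) * P.2 * ((z⁻¹ : GL (Fin 2) F) : M2 F)) *
          ((a : M2 F) * Q.2 * ((z⁻¹ : GL (Fin 2) F) : M2 F)).adjugate
    rw [Matrix.adjugate_mul_distrib, Matrix.adjugate_mul_distrib, adja, adjzi, hdet]
    have e1 : ((a : M2 F) * Q.1 * ((a⁻¹ : GL (Fin 2) F) : M2 F)) * ((a : M2 F) * P.1 * ((a⁻¹ : GL (Fin 2) F) : M2 F))
        = (a : M2 F) * (Q.1 * P.1) * ((a⁻¹ : GL (Fin 2) F) : M2 F) := by
      calc _ = (a : M2 F) * Q.1 * (((a⁻¹ : GL (Fin 2) F) : M2 F) * (a : M2 F)) * P.1 * ((a⁻¹ : GL (Fin 2) F) : M2 F) := by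
            simp only [Matrix.mul_assoc]
        _ = _ := by rw [haa, Matrix.mul_one]; simp only [Matrix.mul_assoc]
    have e2 : ((a : M2 F) * P.2 * ((z⁻¹ : GL (Fin 2) F) : M2 F)) *
          (((z : M2 F).det)⁻¹ • (z : M2 F) * (Q.2.adjugate * ((z : M2 F).det • ((a⁻¹ : GL (Fin 2) F) : M2 F))))
        = (a : M2 F) * (P.2 * Q.2.adjugate) * ((a⁻¹ : GL (Fin 2) F) : M2 F) := by
      rw [Matrix.smul_mul, Matrix.mul_smul, Matrix.mul_smul, Matrix.mul_smul, Matrix.mul_smul, smul_smul,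
        inv_mul_cancel₀ hz0, one_smul]
      calc _ = (a : M2 F) * P.2 * (((z⁻¹ : GL (Fin 2) F) : M2 F) * (z : M2 F)) * Q.2.adjugate * ((a⁻¹ : GL (Fin 2) F) : M2 F) := by
            simp only [Matrix.mul_assoc]
        _ = _ := by rw [hzz, Matrix.mul_one]; simp only [Matrix.mul_assoc]
    rw [e1, e2, Matrix.mul_sub, Matrix.sub_mul]
  · show (a : M2 F) * (P.1 * Q.2 + Q.1.adjugate * P.2) * ((z⁻¹ : GL (Fin 2) F) : M2 F) =
      ((a : M2 F) * P.1 * ((a⁻¹ : GL (Fin 2) F) : M2 F)) * ((a : M2 F) * Q.2 * ((z⁻¹ : GL (Fin 2) F) : M2 F)) +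
        ((a : M2 F) * Q.1 * ((a⁻¹ : GL (Fin 2) F) : M2 F)).adjugate *
          ((a : M2 F) * P.2 * ((z⁻¹ : GL (Fin 2) F) : M2 F))
    rw [Matrix.adjugate_mul_distrib, Matrix.adjugate_mul_distrib, adja, adjai]
    have ha0 : (a : M2 F).det ≠ 0 := by rw [hdet]; exact hz0
    have e1 : ((a : M2 F) * P.1 * ((a⁻¹ : GL (Fin 2) F) : M2 F)) * ((a : M2 F) * Q.2 * ((z⁻¹ : GL (Fin 2) F) : M2 F))
        = (a : M2 F) * (P.1 * Q.2) * ((z⁻¹ : GL (Fin 2) F) : M2 F) := by
      calc _ = (a : M2 F) * P.1 * (((a⁻¹ : GL (Fin 2) F) : M2 F) * (a : M2 F)) * Q.2 * ((z⁻¹ : GL (Fin 2) F) : M2 F) := by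
            simp only [Matrix.mul_assoc]
        _ = _ := by rw [haa, Matrix.mul_one]; simp only [Matrix.mul_assoc]
    have e2 : (((a : M2 F).det)⁻¹ • (a : M2 F) * (Q.1.adjugate * ((a : M2 F).det • ((a⁻¹ : GL (Fin 2) F) : M2 F)))) *
          ((a : M2 F) * P.2 * ((z⁻¹ : GL (Fin 2) F) : M2 F))
        = (a : M2 F) * (Q.1.adjugate * P.2) * ((z⁻¹ : GL (Fin 2) F) : M2 F) := by
      rw [Matrix.smul_mul, Matrix.mul_smul, Matrix.mul_smul, Matrix.smul_mul, Matrix.smul_mul, smul_smul,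
        inv_mul_cancel₀ ha0, one_smul]
      calc _ = (a : M2 F) * Q.1.adjugate * (((a⁻¹ : GL (Fin 2) F) : M2 F) * (a : M2 F)) * P.2 * ((z⁻¹ : GL (Fin 2) F) : M2 F) := by
            simp only [Matrix.mul_assoc]
        _ = _ := by rw [haa, Matrix.mul_one]; simp only [Matrix.mul_assoc]
    rw [e1, e2, Matrix.mul_add, Matrix.add_mul]

theorem gLin_one : gLin (1 : GL (Fin 2) F) 1 = 1 := by
  apply LinearEquiv.ext
  intro P
  simp [gLin_apply]

theorem gLin_mul (a a' z z' : GL (Fin 2) F) :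
    gLin (a * a') (z * z') = gLin a z * gLin a' z' := by
  apply LinearEquiv.ext
  intro P
  show gLin (a * a') (z * z') P = gLin a z (gLin a' z' P)
  simp only [gLin_apply, _root_.mul_inv_rev, Units.val_mul, Matrix.mul_assoc]

/-- the homomorphism `Δ → Aut(A)` -/
def phi (F : Type*) [Field F] : Delta F →* AutA F where
  toFun p := ⟨gLin p.1.1 p.1.2, gLin_mem_AutA _ _ p.2⟩
  map_one' := Subtype.ext gLin_one
  map_mul' p q := Subtype.ext (gLin_mul _ _ _ _)

@[simp] theorem phi_coe (p : Delta F) : ((phi F p : AutA F) : A F ≃ₗ[F] A F) = gLin p.1.1 p.1.2 := rfl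

theorem gLin_eq_one_iff (a z : GL (Fin 2) F) :
    gLin a z = 1 ↔ ∃ c : Fˣ, a = Matrix.GeneralLinearGroup.scalar (Fin 2) c ∧
      z = Matrix.GeneralLinearGroup.scalar (Fin 2) c := by
  have haa : ((a⁻¹ : GL (Fin 2) F) : M2 F) * (a : M2 F) = 1 := by
    rw [← Units.val_mul, inv_mul_cancel, Units.val_one]
  constructor
  · intro h
    have hP : ∀ P : A F, gLin a z P = P := fun P => by rw [h]; rfl
    -- a is central
    have hcomm : ∀ m : M2 F, (a : M2 F) * m = m * (a : M2 F) := by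
      intro m
      have := congrArg Prod.fst (hP (m, 0))
      simp only [gLin_apply] at this
      calc (a : M2 F) * m = (a : M2 F) * m * (((a⁻¹ : GL (Fin 2) F) : M2 F) * (a : M2 F)) := by
            rw [haa, Matrix.mul_one]
        _ = ((a : M2 F) * m * ((a⁻¹ : GL (Fin 2) F) : M2 F)) * (a : M2 F) := by
            simp only [Matrix.mul_assoc]
        _ = m * (a : M2 F) := by rw [this]
    have hsc : (a : M2 F) ∈ Set.range (Matrix.scalar (Fin 2)) := by
      rw [Matrix.mem_range_scalar_iff_commute_single']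
      intro i j
      exact (hcomm _).symm
    obtain ⟨c, hc⟩ := hsc
    have hc0 : c ≠ 0 := by
      rintro rfl
      have : (a : M2 F) = 0 := by rw [← hc]; simp
      have h1 : (1 : M2 F) = 0 := by rw [← haa, this, Matrix.mul_zero]
      exact one_ne_zero (congrFun (congrFun h1 0) 0)
    -- a = z
    have haz : (a : M2 F) = (z : M2 F) := by
      have := congrArg Prod.snd (hP (0, 1))
      simp only [gLin_apply, Matrix.mul_one] at this
      have hzz : ((z⁻¹ : GL (Fin 2) F) : M2 F) * (z : M2 F) = 1 := by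
        rw [← Units.val_mul, inv_mul_cancel, Units.val_one]
      calc (a : M2 F) = (a : M2 F) * (((z⁻¹ : GL (Fin 2) F) : M2 F) * (z : M2 F)) := by
            rw [hzz, Matrix.mul_one]
        _ = ((a : M2 F) * ((z⁻¹ : GL (Fin 2) F) : M2 F)) * (z : M2 F) := by rw [Matrix.mul_assoc]
        _ = (z : M2 F) := by rw [this, Matrix.one_mul]
    refine ⟨Units.mk0 c hc0, ?_, ?_⟩
    · apply Units.ext
      rw [Matrix.GeneralLinearGroup.coe_scalar]
      exact hc.symm
    · apply Units.ext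
      rw [Matrix.GeneralLinearGroup.coe_scalar, ← haz]
      exact hc.symm
  · rintro ⟨c, rfl, rfl⟩
    apply LinearEquiv.ext
    intro P
    have h1 : ∀ m : M2 F, ((Matrix.GeneralLinearGroup.scalar (Fin 2) c : GL (Fin 2) F) : M2 F) * m *
        (((Matrix.GeneralLinearGroup.scalar (Fin 2) c)⁻¹ : GL (Fin 2) F) : M2 F) = m := by
      intro m
      have hcm : ((Matrix.GeneralLinearGroup.scalar (Fin 2) c : GL (Fin 2) F) : M2 F) * m =
          m * ((Matrix.GeneralLinearGroup.scalar (Fin 2) c : GL (Fin 2) F) : M2 F) := by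
        rw [Matrix.GeneralLinearGroup.coe_scalar]
        exact (Matrix.scalar_commute (c : F) (fun _ => Commute.all _ _) m).eq
      rw [hcm, Matrix.mul_assoc, ← Units.val_mul, mul_inv_cancel, Units.val_one, Matrix.mul_one]
    show gLin _ _ P = P
    rw [gLin_apply, h1, h1]

theorem phi_eq_one_iff (p : Delta F) :
    phi F p = 1 ↔ ∃ c : Fˣ, p.1 = (Matrix.GeneralLinearGroup.scalar (Fin 2) c,
      Matrix.GeneralLinearGroup.scalar (Fin 2) c) := by
  rw [Subtype.ext_iff, phi_coe, Subgroup.coe_one, gLin_eq_one_iff]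
  constructor
  · rintro ⟨c, h1, h2⟩
    exact ⟨c, Prod.ext h1 h2⟩
  · rintro ⟨c, h⟩
    exact ⟨c, by rw [h], by rw [h]⟩

end Cfsg.Agent.Lib.Helper5.G2Syl
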