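/-
helper5, project G2SYL (S4632): second definitions file - the subgroups `Gam = phi(Δ)` and `Nsub = phi(SL₂ × SL₂)`
of `Aut(A)`, and the involution `tAut`.
-/
import Mathlib
import Cfsg.Agent.Lib.Helper5.G2Syl.Gaut

set_option autoImplicit false

namespace Cfsg.Agent.Lib.Helper5.G2Syl

open Matrix

variable {F : Type*} [Field F]

/-- `SL₂ × SL₂ → Δ` -/
def slEmb (F : Type*) [Field F] :
    Matrix.SpecialLinearGroup (Fin 2) F × Matrix.SpecialLinearGroup (Fin 2) F →* Delta F where
  toFun s := ⟨(Matrix.SpecialLinearGroup.toGL s.1, Matrix.SpecialLinearGroup.toGL s.2), by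
    rw [mem_Delta]
    apply Units.ext
    simp⟩
  map_one' := by
    apply Subtype.ext
    simp
  map_mul' s s' := by
    apply Subtype.ext
    simp

@[simp] theorem slEmb_coe (s : Matrix.SpecialLinearGroup (Fin 2) F × Matrix.SpecialLinearGroup (Fin 2) F) :
    (slEmb F s : GL (Fin 2) F × GL (Fin 2) F) =
      (Matrix.SpecialLinearGroup.toGL s.1, Matrix.SpecialLinearGroup.toGL s.2) := rfl

/-- the image of `Δ` in `Aut(A)` (it is the centralizer of `tAut`, module [CENT]) -/
def Gam (F : Type*) [Field F] : Subgroup (AutA F) := (phi F).range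

/-- `phi` with codomain `Gam` -/
def phiG (F : Type*) [Field F] : Delta F →* Gam F := (phi F).rangeRestrict

@[simp] theorem phiG_coe (p : Delta F) : ((phiG F p : Gam F) : AutA F) = phi F p := rfl

theorem phiG_surjective : Function.Surjective (phiG F) := (phi F).rangeRestrict_surjective

/-- `SL₂ × SL₂ → Gam` -/
def piN (F : Type*) [Field F] :
    Matrix.SpecialLinearGroup (Fin 2) F × Matrix.SpecialLinearGroup (Fin 2) F →* Gam F :=
  (phiG F).comp (slEmb F)

/-- the image of `SL₂ × SL₂` in `Gam` -/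
def Nsub (F : Type*) [Field F] : Subgroup (Gam F) := (piN F).range

/-- the involution `(h, X) ↦ (h, -X)` as an element of `Aut(A)` -/
def tAut (F : Type*) [Field F] : AutA F :=
  ⟨tA F, gLin_mem_AutA (1 : GL (Fin 2) F) (-1 : GL (Fin 2) F) (by
    apply Units.ext
    simp [Matrix.det_neg])⟩

/-- `(diag(u,1), diag(u,1)) ∈ Δ` -/
def dDelta (u : Fˣ) : Delta F := ⟨(diagU u, diagU u), rfl⟩

/-- `(w, w) ∈ Δ` -/
def eDelta (F : Type*) [Field F] : Delta F := ⟨(swapW F, swapW F), rfl⟩

/-- the diagonal embedding `GL₂ → Δ`, `a ↦ (a, a)` -/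
def diagHom (F : Type*) [Field F] : GL (Fin 2) F →* Delta F where
  toFun a := ⟨(a, a), rfl⟩
  map_one' := rfl
  map_mul' _ _ := rfl

@[simp] theorem diagHom_coe (a : GL (Fin 2) F) : (diagHom F a : GL (Fin 2) F × GL (Fin 2) F) = (a, a) := rfl

instance instFiniteLinAut [Fintype F] : Finite (A F ≃ₗ[F] A F) := by
  apply Finite.of_injective (fun g : A F ≃ₗ[F] A F => (g : A F → A F))
  intro g h hgh
  exact LinearEquiv.ext (fun x => congrFun hgh x)

instance instFiniteAutA [Fintype F] : Finite (AutA F) := inferInstance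

instance instFiniteGam [Fintype F] : Finite (Gam F) := inferInstance

end Cfsg.Agent.Lib.Helper5.G2Syl
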