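/-
helper5, project G2SYL (S4632): the matrix model of the split octonions and the homomorphism
`phi : Δ → Aut(A)`, `(a, z) ↦ ((h, X) ↦ (a h a⁻¹, a X z⁻¹))`.
-/
import Mathlib
import Cfsg.Agent.Lib.Helper5.G2Syl.Defs

set_option autoImplicit false

namespace Cfsg.Agent.Lib.Helper5.G2Syl

open Matrix

variable {F : Type*} [Field F]

/-- `theta` is an isomorphism of (non-associative) algebras -/
theorem theta_zornMul (x y : Fin 8 → F) :
    theta (Cfsg.Lie.zornMul x y) = mu (theta x) (theta y) := by
  ext i j <;> fin_cases i <;> fin_cases j <;>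
    simp [theta, mu, Cfsg.Lie.zornMul, Cfsg.Lie.dot3, Cfsg.Lie.cross3, Matrix.adjugate_fin_two] <;> ring

theorem glEquiv_apply (g : GL (Fin 8) F) (x : Fin 8 → F) :
    glEquiv F g (theta x) = theta ((g : Matrix (Fin 8) (Fin 8) F) *ᵥ x) := by
  simp [glEquiv, Matrix.GeneralLinearGroup.toLin, LinearMap.GeneralLinearGroup.congrLinearEquiv,
    LinearMap.GeneralLinearGroup.generalLinearEquiv]

theorem glEquiv_mem_AutA_iff (g : GL (Fin 8) F) : glEquiv F g ∈ AutA F ↔ g ∈ Cfsg.Lie.G2 F := by
  constructor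
  · intro h x y
    have h1 := h (theta x) (theta y)
    rw [← theta_zornMul, glEquiv_apply, glEquiv_apply, glEquiv_apply, ← theta_zornMul] at h1
    exact theta.injective h1
  · intro h P Q
    obtain ⟨x, rfl⟩ := (theta (F := F)).surjective P
    obtain ⟨y, rfl⟩ := (theta (F := F)).surjective Q
    rw [← theta_zornMul, glEquiv_apply, glEquiv_apply, glEquiv_apply, ← theta_zornMul]
    congr 1
    exact h x y

/-- `G₂(F)` (Zorn model) is isomorphic to the automorphism group of the matrix model -/
noncomputable def autEquiv (F : Type*) [Field F] : Cfsg.Lie.G2 F ≃* AutA F :=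
  ((glEquiv F).subgroupMap (Cfsg.Lie.G2 F)).trans (MulEquiv.subgroupCongr (by
    ext g
    constructor
    · rintro ⟨x, hx, rfl⟩
      exact (glEquiv_mem_AutA_iff x).2 hx
    · intro hg
      refine ⟨(glEquiv F).symm g, ?_, by simp⟩
      rw [SetLike.mem_coe, ← glEquiv_mem_AutA_iff]
      simpa using hg))

end Cfsg.Agent.Lib.Helper5.G2Syl
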